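import Groth.Agent.Pinch.Lift
import Groth.Agent.Pinch.Milnor
import Groth.Agent.Pinch.AlgSp
import Groth.Agent.Pinch.Props
import Groth.Agent.Pinch.BaseChange
import Groth.Agent.Pinch.Charts
import Groth.Prelude.Def_AlgSpInf

/-!
# Pinchings of schemes over a base along two closed immersions
-/

set_option autoImplicit false
set_option backward.isDefEq.respectTransparency false
set_option linter.style.haveILetI false

universe u

open CategoryTheory CategoryTheory.Limits AlgebraicGeometry

namespace Groth.Agent.ClosedPinch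

open _root_.AlgSp Groth.Agent.AlgSpLib

variable {S : Scheme.{u}} {X X' Y P : Over S}

/-- A pinching along two closed immersions, over a base. -/
structure IsClosedPinch (i : X ⟶ X') (j : X ⟶ Y) (a : X' ⟶ P) (b : Y ⟶ P) : Prop where
  closed : IsClosedImmersion i.left
  closed' : IsClosedImmersion j.left
  w : i ≫ a = j ≫ b
  pinch : Pinch.IsPinch i.left j.left a.left b.left

namespace IsClosedPinch

variable {i : X ⟶ X'} {j : X ⟶ Y} {a : X' ⟶ P} {b : Y ⟶ P} (h : IsClosedPinch i j a b)

include h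

theorem hasCharts : Pinch.HasCharts i.left j.left :=
  haveI := h.closed; haveI := h.closed'
  Pinch.hasCharts_of_closed i.left j.left

theorem isPushout : IsPushout i j a b := by
  have hpo := Pinch.isPushout_of_isPinch h.pinch
  have key : ∀ s : PushoutCocone i j, hpo.desc s.inl.left s.inr.left (congrArg (fun m => m.left) s.condition) ≫ s.pt.hom =
      P.hom := fun s => hpo.hom_ext
    (by rw [hpo.inl_desc_assoc]; exact (Over.w s.inl).trans (Over.w a).symm)
    (by rw [hpo.inr_desc_assoc]; exact (Over.w s.inr).trans (Over.w b).symm)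
  exact ⟨⟨h.w⟩, ⟨PushoutCocone.IsColimit.mk _ (fun s => Over.homMk _ (key s))
    (fun s => Over.OverMorphism.ext (hpo.inl_desc _ _ _)) (fun s => Over.OverMorphism.ext (hpo.inr_desc _ _ _))
    (fun s m e₁ e₂ => Over.OverMorphism.ext (hpo.hom_ext
      ((congrArg (fun m => m.left) e₁).trans (hpo.inl_desc _ _ _).symm)
      ((congrArg (fun m => m.left) e₂).trans (hpo.inr_desc _ _ _).symm)))⟩⟩

theorem isPullback : IsPullback i.left j.left a.left b.left :=
  haveI := h.closed
  Pinch.isPullback h.hasCharts h.pinch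

/-- Two maps to an algebraic space agree if they agree on both parts. -/
theorem sp_hom_ext {F : Sp S} (hF : IsAlgSpace F) {g₁ g₂ : (yon S).obj P ⟶ F}
    (ha : (yon S).map a ≫ g₁ = (yon S).map a ≫ g₂) (hb : (yon S).map b ≫ g₁ = (yon S).map b ≫ g₂) : g₁ = g₂ :=
  Pinch.algSp_hom_ext hF.diag h.isPushout ha hb

/-- Maps to an algebraic space glue from both parts. -/
theorem sp_desc {F : Sp S} (hF : IsAlgSpace F) (g₁ : (yon S).obj X' ⟶ F) (g₂ : (yon S).obj Y ⟶ F)
    (e : (yon S).map i ≫ g₁ = (yon S).map j ≫ g₂) :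
    ∃ g : (yon S).obj P ⟶ F, (yon S).map a ≫ g = g₁ ∧ (yon S).map b ≫ g = g₂ := by
  haveI := h.closed
  haveI := h.closed'
  refine Pinch.algSp_exists_desc h.hasCharts h.isPushout (fun Z'' X'' Y'' i' j' c f g _ _ hX hY _ => ?_) hF g₁ g₂ e
  haveI : IsClosedImmersion j' := MorphismProperty.of_isPullback hY.flip ‹IsClosedImmersion j.left›
  exact Pinch.hasCharts_of_closed i' j'

variable {X₁ X₁' Y₁ P₁ : Over S} {i₁ : X₁ ⟶ X₁'} {j₁ : X₁ ⟶ Y₁} {a₁ : X₁' ⟶ P₁} {b₁ : Y₁ ⟶ P₁}

/-- Base change of a pinching along a flat morphism. -/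
theorem baseChange (g : P₁ ⟶ P) [Flat g.left] {gX' : X₁' ⟶ X'} {gY : Y₁ ⟶ Y} {c : X₁ ⟶ X}
    (ha : IsPullback gX'.left a₁.left a.left g.left) (hb : IsPullback gY.left b₁.left b.left g.left)
    (hi : IsPullback c.left i₁.left i.left gX'.left) (hjc : j₁ ≫ gY = c ≫ j) (w : i₁ ≫ a₁ = j₁ ≫ b₁) :
    IsClosedPinch i₁ j₁ a₁ b₁ := by
  haveI := h.closed
  haveI := h.closed'
  haveI : IsClosedImmersion i₁.left := MorphismProperty.of_isPullback hi ‹IsClosedImmersion i.left›
  have hjc' : j₁.left ≫ gY.left = c.left ≫ j.left := congrArg (fun m => m.left) hjc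
  have w' : i₁.left ≫ a₁.left = j₁.left ≫ b₁.left := congrArg (fun m => m.left) w
  have hj : IsPullback c.left j₁.left j.left gY.left := by
    refine IsPullback.of_bot ?_ hjc'.symm hb
    rw [← w', show j.left ≫ b.left = i.left ≫ a.left from (congrArg (fun m => m.left) h.w).symm]
    exact hi.paste_vert ha
  haveI : IsClosedImmersion j₁.left := MorphismProperty.of_isPullback hj ‹IsClosedImmersion j.left›
  exact ⟨‹_›, ‹_›, w, Pinch.isPinch_baseChange_flat h.hasCharts h.pinch (𝟙 P.left) g.left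
    (pP := g.left) (sPT := 𝟙 P₁.left) (IsPullback.of_vert_isIso ⟨by simp⟩)
    ha hb hi hjc' w'.symm⟩

end IsClosedPinch

end Groth.Agent.ClosedPinch
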