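import Groth.Agent.ClosedPinch.Chart
import Groth.Agent.SchImg.IdealEtBridge
import Groth.Agent.SchImg.CutOut
import Groth.Agent.ClosedUnion.Pushout

/-!
# The scheme-theoretic union of closed subspaces is their pushout along the intersection
-/

set_option autoImplicit false
set_option backward.isDefEq.respectTransparency false
set_option linter.style.haveILetI false

universe u

open CategoryTheory CategoryTheory.Limits AlgebraicGeometry

namespace Groth.Agent.ClosedPinch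

open _root_.AlgSp Groth.Agent.AlgSpLib Groth.Agent.SchImg

variable {S : Scheme.{u}}

/-- The ideal on an affine open of a chart, from the ideal of the cut out subspace. -/
theorem ideal_eq_chart {X Z : Sp S} {i : Z ⟶ X} {I : IdealEt X} (h : IsCutOutBy I i) {U : Over S}
    {π : (yon S).obj U ⟶ X} (hπ : RepWith @Etale π) {J : U.left.IdealSheafData} (hJ : IsPullIdeal i π J)
    (O : U.left.affineOpens) :
    (J.comap O.1.ι).ideal ⟨⊤, haveI : IsAffine O.1.toScheme := O.2; isAffineOpen_top _⟩ =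
      I.ideal (openChart hπ O.1) O.2 := by
  obtain ⟨hi, rfl⟩ := h
  exact (idealOfRep_eq hi (openChart hπ O.1) O.2 (hJ.comap (Over.homMk O.1.ι rfl : Over.mk (O.1.ι ≫ U.hom) ⟶ U))).symm

/-- Ideal sheaves agree when their restrictions to the affine opens have the same global ideals. -/
theorem eq_of_chart {U : Scheme.{u}} {J J' : U.IdealSheafData}
    (h : ∀ O : U.affineOpens, (J.comap O.1.ι).ideal ⟨⊤, haveI : IsAffine O.1.toScheme := O.2; isAffineOpen_top _⟩ =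
      (J'.comap O.1.ι).ideal ⟨⊤, haveI : IsAffine O.1.toScheme := O.2; isAffineOpen_top _⟩) : J = J' :=
  eq_of_forall_comap_affine fun O hO => haveI : IsAffine O.toScheme := hO
    Scheme.IdealSheafData.ext_of_isAffine (h ⟨O, hO⟩)

variable {X Y Z W V : Sp S} {iY : Y ⟶ X} {iZ : Z ⟶ X} {w : W ⟶ X} {v : V ⟶ X} {I J K : IdealEt X}

/-- Local rings of the union: pullback ideals. -/
theorem pullIdeals (hK : ∀ (E : EtOver X) (hE : IsAffine E.obj.left.left), K.ideal E hE = I.ideal E hE ⊓ J.ideal E hE)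
    (hY : IsCutOutBy I iY) (hZ : IsCutOutBy J iZ) (hW : IsCutOutBy K w) (hV : IsCutOutBy (I ⊔ J) v)
    {U : Over S} {π : (yon S).obj U ⟶ X} (hπ : RepWith @Etale π) {JY JZ JW JV : U.left.IdealSheafData}
    (eY : IsPullIdeal iY π JY) (eZ : IsPullIdeal iZ π JZ) (eW : IsPullIdeal w π JW) (eV : IsPullIdeal v π JV) :
    JW = JY ⊓ JZ ∧ JV = JY ⊔ JZ := by
  constructor
  · refine eq_of_chart fun O => ?_
    rw [Scheme.IdealSheafData.ideal_comap_of_isOpenImmersion (JY ⊓ JZ), Scheme.IdealSheafData.ideal_inf, Pi.inf_apply,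
      Ideal.comap_inf, ← Scheme.IdealSheafData.ideal_comap_of_isOpenImmersion, ← Scheme.IdealSheafData.ideal_comap_of_isOpenImmersion,
      ideal_eq_chart hW hπ eW O, ideal_eq_chart hY hπ eY O, ideal_eq_chart hZ hπ eZ O, hK]
  · refine eq_of_chart fun O => ?_
    rw [show (JY ⊔ JZ).comap O.1.ι = JY.comap O.1.ι ⊔ JZ.comap O.1.ι from
      (Scheme.IdealSheafData.map_gc O.1.ι).l_sup, Scheme.IdealSheafData.ideal_sup, Pi.sup_apply,
      ideal_eq_chart hV hπ eV O, ideal_eq_chart hY hπ eY O, ideal_eq_chart hZ hπ eZ O]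
    rfl

theorem isPushout_union {X Y Z W V : Space S} {iY : Y ⟶ X} {iZ : Z ⟶ X} {w : W ⟶ X} {v : V ⟶ X}
    {I J K : IdealEt X.obj}
    (hK : ∀ (E : EtOver X.obj) (hE : IsAffine E.obj.left.left), K.ideal E hE = I.ideal E hE ⊓ J.ideal E hE)
    (hY : IsCutOutBy I iY.hom) (hZ : IsCutOutBy J iZ.hom) (hW : IsCutOutBy K w.hom) (hV : IsCutOutBy (I ⊔ J) v.hom)
    {a : Y ⟶ W} {b : Z ⟶ W} {c : V ⟶ Y} {d : V ⟶ Z}
    (ha : a ≫ w = iY) (hb : b ≫ w = iZ) (hc : c ≫ iY = v) (hd : d ≫ iZ = v) :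
    RepWith @IsClosedImmersion a.hom ∧ RepWith @IsClosedImmersion b.hom ∧ IsPushout c d a b := by
  have ha' : a.hom ≫ w.hom = iY.hom := congrArg (fun m => m.hom) ha
  have hb' : b.hom ≫ w.hom = iZ.hom := congrArg (fun m => m.hom) hb
  have hc' : c.hom ≫ iY.hom = v.hom := congrArg (fun m => m.hom) hc
  have hd' : d.hom ≫ iZ.hom = v.hom := congrArg (fun m => m.hom) hd
  haveI := mono_of_closed hW.1
  haveI := mono_of_closed hY.1
  haveI := mono_of_closed hZ.1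
  refine ⟨repWith_of_comp_mono (ha'.symm ▸ hY.1), repWith_of_comp_mono (hb'.symm ▸ hZ.1), ?_⟩
  obtain ⟨U, π, hπ, hπs⟩ := X.property.atlas
  obtain ⟨JY, eY⟩ := exists_pullIdeal hY.1 π
  obtain ⟨JZ, eZ⟩ := exists_pullIdeal hZ.1 π
  obtain ⟨JW, eW⟩ := exists_pullIdeal hW.1 π
  obtain ⟨JV, eV⟩ := exists_pullIdeal hV.1 π
  obtain ⟨rfl, rfl⟩ := pullIdeals hK hY hZ hW hV hπ eY eZ eW eV
  obtain ⟨qY, sY⟩ := exists_std_square hY.1 eY
  obtain ⟨qZ, sZ⟩ := exists_std_square hZ.1 eZ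
  obtain ⟨qW, sW⟩ := exists_std_square hW.1 eW
  obtain ⟨qV, sV⟩ := exists_std_square hV.1 eV
  let Y₀ : Over S := Over.mk (JY.subschemeι ≫ U.hom)
  let Z₀ : Over S := Over.mk (JZ.subschemeι ≫ U.hom)
  let W₀ : Over S := Over.mk ((JY ⊓ JZ).subschemeι ≫ U.hom)
  let V₀ : Over S := Over.mk ((JY ⊔ JZ).subschemeι ≫ U.hom)
  let fY : Y₀ ⟶ U := Over.homMk JY.subschemeι rfl
  let fZ : Z₀ ⟶ U := Over.homMk JZ.subschemeι rfl
  let fW : W₀ ⟶ U := Over.homMk (JY ⊓ JZ).subschemeι rfl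
  let fV : V₀ ⟶ U := Over.homMk (JY ⊔ JZ).subschemeι rfl
  let i₀ : V₀ ⟶ Y₀ := Over.homMk (Scheme.IdealSheafData.inclusion (le_sup_left : JY ≤ JY ⊔ JZ)) (by simp [V₀, Y₀])
  let j₀ : V₀ ⟶ Z₀ := Over.homMk (Scheme.IdealSheafData.inclusion (le_sup_right : JZ ≤ JY ⊔ JZ)) (by simp [V₀, Z₀])
  let a₀ : Y₀ ⟶ W₀ := Over.homMk (Scheme.IdealSheafData.inclusion (inf_le_left : JY ⊓ JZ ≤ JY)) (by simp [W₀, Y₀])
  let b₀ : Z₀ ⟶ W₀ := Over.homMk (Scheme.IdealSheafData.inclusion (inf_le_right : JY ⊓ JZ ≤ JZ)) (by simp [W₀, Z₀])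
  have hi₀ : i₀ ≫ fY = fV := Over.OverMorphism.ext (Scheme.IdealSheafData.inclusion_subschemeι _)
  have hj₀ : j₀ ≫ fZ = fV := Over.OverMorphism.ext (Scheme.IdealSheafData.inclusion_subschemeι _)
  have ha₀ : a₀ ≫ fW = fY := Over.OverMorphism.ext (Scheme.IdealSheafData.inclusion_subschemeι _)
  have hb₀ : b₀ ≫ fW = fZ := Over.OverMorphism.ext (Scheme.IdealSheafData.inclusion_subschemeι _)
  haveI hci : IsClosedImmersion i₀.left := inferInstanceAs (IsClosedImmersion (Scheme.IdealSheafData.inclusion _))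
  haveI hcj : IsClosedImmersion j₀.left := inferInstanceAs (IsClosedImmersion (Scheme.IdealSheafData.inclusion _))
  have hpin : IsClosedPinch i₀ j₀ a₀ b₀ :=
    ⟨hci, hcj, Over.OverMorphism.ext (ClosedUnion.isPushout JY JZ).w,
      Pinch.isPinch_of_isPushout (Pinch.hasCharts_of_closed i₀.left j₀.left) (ClosedUnion.isPushout JY JZ)⟩
  -- squares
  have key : ∀ {A B : Sp S} {A₀ B₀ : Over S} {g : A ⟶ B} {iA : A ⟶ X.obj} {iB : B ⟶ X.obj} {qA : (yon S).obj A₀ ⟶ A}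
      {qB : (yon S).obj B₀ ⟶ B} {fA : A₀ ⟶ U} {fB : B₀ ⟶ U} (g₀ : A₀ ⟶ B₀) [Mono iB],
      IsPullback qA ((yon S).map fA) iA π → IsPullback qB ((yon S).map fB) iB π → g ≫ iB = iA → g₀ ≫ fB = fA →
      IsPullback ((yon S).map g₀) qA qB g := by
    intro A B A₀ B₀ g iA iB qA qB fA fB g₀ _ hA hB hg hg₀
    refine (IsPullback.of_bot ?_ ?_ hB).flip
    · rw [← Functor.map_comp, hg₀, hg]; exact hA
    · rw [← cancel_mono iB, Category.assoc, hg, Category.assoc, hB.w, hA.w, ← Functor.map_comp_assoc, hg₀]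
  haveI := mono_of_closed hV.1
  have sq : Chart c.hom d.hom a.hom b.hom :=
    { X₀ := V₀, X₀' := Y₀, Y₀ := Z₀, P₀ := W₀, i := i₀, j := j₀, a := a₀, b := b₀, pinch := hpin, q := qV, q' := qY,
      r := qZ, p := qW, hi := key i₀ sV sY hc' hi₀, hj := key j₀ sV sZ hd' hj₀, ha := key a₀ sY sW ha' ha₀,
      hb := key b₀ sZ sW hb' hb₀, et := repWith_baseChange sW.flip hπ, surj := repWith_baseChange sW.flip hπs }
  refine isPushout_of_chart (ObjectProperty.hom_ext _ ?_) sq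
  show c.hom ≫ a.hom = d.hom ≫ b.hom
  rw [← cancel_mono w.hom, Category.assoc, Category.assoc, ha', hb', hc', hd']

end Groth.Agent.ClosedPinch
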